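import Mathlib
import Groth.Agent.TorSESLib.Basic

/-!
# `Tor` commutes with filtered colimits
-/

set_option autoImplicit false
set_option linter.style.haveILetI false

universe w w' v v' u u'

open CategoryTheory CategoryTheory.Limits

namespace TorColimLib

section Generic

variable {D : Type u'} [Category.{v'} D] {C : Type u} [Category.{v} C] [Abelian C]
  {J : Type w} [Category.{w'} J] [HasColimitsOfShape J C] [HasExactColimitsOfShape J C]

/-- Homology commutes with exact colimits. -/
theorem preservesColimitsOfShape_homology (Φ : D ⥤ ShortComplex C)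
    [PreservesColimitsOfShape J (Φ ⋙ ShortComplex.π₁)]
    [PreservesColimitsOfShape J (Φ ⋙ ShortComplex.π₂)]
    [PreservesColimitsOfShape J (Φ ⋙ ShortComplex.π₃)] :
    PreservesColimitsOfShape J (Φ ⋙ ShortComplex.homologyFunctor C) where
  preservesColimit {Kd} := ⟨fun {c} hc => ⟨by
    let SS : ShortComplex (J ⥤ C) :=
      ShortComplex.mk (Functor.whiskerLeft (Kd ⋙ Φ) ShortComplex.π₁Toπ₂)
        (Functor.whiskerLeft (Kd ⋙ Φ) ShortComplex.π₂Toπ₃)
        (by ext j; exact ((Kd ⋙ Φ).obj j).zero)
    let τ : ∀ j : J, (evaluation J C).obj j ⟶ (colim (J := J) (C := C)) := fun j =>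
      { app := fun X => colimit.ι X j
        naturality := fun X Y f => (ι_colimMap f j).symm }
    let h1 := isColimitOfPreserves (Φ ⋙ ShortComplex.π₁) hc
    let h2 := isColimitOfPreserves (Φ ⋙ ShortComplex.π₂) hc
    let h3 := isColimitOfPreserves (Φ ⋙ ShortComplex.π₃) hc
    let e1 : (SS.map colim).X₁ ≅ (Φ.obj c.pt).X₁ :=
      (colimit.isColimit SS.X₁).coconePointUniqueUpToIso h1
    let e2 : (SS.map colim).X₂ ≅ (Φ.obj c.pt).X₂ :=
      (colimit.isColimit SS.X₂).coconePointUniqueUpToIso h2
    let e3 : (SS.map colim).X₃ ≅ (Φ.obj c.pt).X₃ :=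
      (colimit.isColimit SS.X₃).coconePointUniqueUpToIso h3
    have p1 : ∀ j, (τ j).app SS.X₁ ≫ e1.hom = (Φ.map (c.ι.app j)).τ₁ := fun j =>
      IsColimit.comp_coconePointUniqueUpToIso_hom (colimit.isColimit SS.X₁) h1 j
    have p2 : ∀ j, (τ j).app SS.X₂ ≫ e2.hom = (Φ.map (c.ι.app j)).τ₂ := fun j =>
      IsColimit.comp_coconePointUniqueUpToIso_hom (colimit.isColimit SS.X₂) h2 j
    have p3 : ∀ j, (τ j).app SS.X₃ ≫ e3.hom = (Φ.map (c.ι.app j)).τ₃ := fun j =>
      IsColimit.comp_coconePointUniqueUpToIso_hom (colimit.isColimit SS.X₃) h3 j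
    let e : SS.map colim ≅ Φ.obj c.pt := ShortComplex.isoMk e1 e2 e3
      (colimit.hom_ext fun j => ((Category.assoc _ _ _).symm.trans
        ((congrArg (· ≫ (Φ.obj c.pt).f) (p1 j)).trans ((Φ.map (c.ι.app j)).comm₁₂.trans
          ((congrArg (((Kd ⋙ Φ).obj j).f ≫ ·) (p2 j)).symm.trans
            ((Category.assoc _ _ _).symm.trans ((congrArg (· ≫ e2.hom) ((τ j).naturality SS.f).symm).symm.trans
              (Category.assoc _ _ _))))))))
      (colimit.hom_ext fun j => ((Category.assoc _ _ _).symm.trans
        ((congrArg (· ≫ (Φ.obj c.pt).g) (p2 j)).trans ((Φ.map (c.ι.app j)).comm₂₃.trans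
          ((congrArg (((Kd ⋙ Φ).obj j).g ≫ ·) (p3 j)).symm.trans
            ((Category.assoc _ _ _).symm.trans ((congrArg (· ≫ e3.hom) ((τ j).naturality SS.g).symm).symm.trans
              (Category.assoc _ _ _))))))))
    let ej : ∀ j : J, Φ.obj (Kd.obj j) ≅ SS.map ((evaluation J C).obj j) := fun j =>
      ShortComplex.isoMk (Iso.refl _) (Iso.refl _) (Iso.refl _)
        ((Category.id_comp _).trans (Category.comp_id _).symm)
        ((Category.id_comp _).trans (Category.comp_id _).symm)
    let ψ : Kd ⋙ Φ ⋙ ShortComplex.homologyFunctor C ≅ SS.homology :=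
      NatIso.ofComponents
        (fun j => ShortComplex.homologyMapIso (ej j) ≪≫ SS.mapHomologyIso ((evaluation J C).obj j))
        (fun {j j'} f => by
          have h := NatTrans.app_homology ((evaluation J C).map f) SS
          have hh : Φ.map (Kd.map f) ≫ (ej j').hom =
              (ej j).hom ≫ SS.mapNatTrans ((evaluation J C).map f) := by
            refine ShortComplex.hom_ext _ _ ?_ ?_ ?_ <;>
              exact (Category.comp_id _).trans (Category.id_comp _).symm
          have hh' := (ShortComplex.homologyMap_comp (Φ.map (Kd.map f)) (ej j').hom).symm.trans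
            ((congrArg (fun x => ShortComplex.homologyMap x) hh).trans
              (ShortComplex.homologyMap_comp (ej j).hom (SS.mapNatTrans ((evaluation J C).map f))))
          change ShortComplex.homologyMap (Φ.map (Kd.map f)) ≫
              ShortComplex.homologyMap (ej j').hom ≫ (SS.mapHomologyIso _).hom =
            (ShortComplex.homologyMap (ej j).hom ≫ (SS.mapHomologyIso _).hom) ≫
              ((evaluation J C).map f).app SS.homology
          rw [h, Category.assoc, Iso.hom_inv_id_assoc, ← Category.assoc, hh', Category.assoc])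
    refine IsColimit.ofIsoColimit
      ((IsColimit.precomposeHomEquiv ψ _).symm (colimit.isColimit SS.homology))
      (Cocone.ext ((SS.mapHomologyIso colim).symm ≪≫ ShortComplex.homologyMapIso e) fun j => ?_)
    have h := NatTrans.app_homology (τ j) SS
    change (ψ.hom.app j ≫ (τ j).app SS.homology) ≫ (SS.mapHomologyIso colim).inv ≫
      ShortComplex.homologyMap e.hom = ShortComplex.homologyMap (Φ.map (c.ι.app j))
    rw [h]
    simp only [ψ, NatIso.ofComponents_hom_app, Iso.trans_hom, ShortComplex.homologyMapIso_hom,
      Category.assoc, Iso.hom_inv_id_assoc]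
    refine ((congrArg (ShortComplex.homologyMap (ej j).hom ≫ ·)
      (ShortComplex.homologyMap_comp _ _).symm).trans (ShortComplex.homologyMap_comp _ _).symm).trans ?_
    congr 1
    refine ShortComplex.hom_ext _ _ ?_ ?_ ?_
    · exact (Category.id_comp _).trans (p1 j)
    · exact (Category.id_comp _).trans (p2 j)
    · exact (Category.id_comp _).trans (p3 j)⟩⟩

open ZeroObject in
/-- A kernel of a natural transformation between functors preserving exact colimits preserves
them. -/
theorem preservesColimitsOfShape_of_exact [HasZeroObject C] {G H₁ H₂ : D ⥤ C} (ι : G ⟶ H₁)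
    (f : H₁ ⟶ H₂) (w : ∀ X, ι.app X ≫ f.app X = 0) [∀ X, Mono (ι.app X)]
    (hex : ∀ X, (ShortComplex.mk _ _ (w X)).Exact)
    [PreservesColimitsOfShape J H₁] [PreservesColimitsOfShape J H₂] :
    PreservesColimitsOfShape J G := by
  let Φ : D ⥤ ShortComplex C :=
    { obj := fun X => ShortComplex.mk (0 : (0 : C) ⟶ H₁.obj X) (f.app X) zero_comp
      map := fun {X Y} a =>
        { τ₁ := 0, τ₂ := H₁.map a, τ₃ := H₂.map a, comm₂₃ := f.naturality a } }
  haveI : PreservesColimitsOfShape J (Φ ⋙ ShortComplex.π₁) :=
    ⟨fun {K} => ⟨fun {c} _ => ⟨{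
      desc := fun s => 0
      fac := fun s j =>
        (show IsZero ((K ⋙ Φ ⋙ ShortComplex.π₁).obj j) from isZero_zero C).eq_of_src _ _
      uniq := fun s m _ =>
        (show IsZero (((Φ ⋙ ShortComplex.π₁).mapCocone c).pt) from isZero_zero C).eq_of_src _ _ }⟩⟩⟩
  haveI : PreservesColimitsOfShape J (Φ ⋙ ShortComplex.π₂) :=
    preservesColimitsOfShape_of_natIso
      (NatIso.ofComponents (fun _ => Iso.refl _) (fun a => (Category.comp_id _).trans (Category.id_comp _).symm) : H₁ ≅ Φ ⋙ ShortComplex.π₂)
  haveI : PreservesColimitsOfShape J (Φ ⋙ ShortComplex.π₃) :=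
    preservesColimitsOfShape_of_natIso
      (NatIso.ofComponents (fun _ => Iso.refl _) (fun a => (Category.comp_id _).trans (Category.id_comp _).symm) : H₂ ≅ Φ ⋙ ShortComplex.π₃)
  haveI := preservesColimitsOfShape_homology (J := J) Φ
  let θ : ∀ X, G.obj X ⟶ (Φ.obj X).homology := fun X =>
    (Φ.obj X).liftCycles (ι.app X) (w X) ≫ (Φ.obj X).homologyπ
  have hθ : ∀ X, IsIso (θ X) := fun X => by
    haveI : IsIso (Φ.obj X).homologyπ :=
      (inferInstance : IsIso ((Φ.obj X).asIsoHomologyπ rfl).hom)
    haveI : IsIso ((Φ.obj X).liftCycles (ι.app X) (w X)) :=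
      ⟨(hex X).lift (Φ.obj X).iCycles (Φ.obj X).iCycles_g,
        by rw [← cancel_mono (ι.app X), Category.assoc]; erw [(hex X).lift_f]; simp,
        by rw [← cancel_mono (Φ.obj X).iCycles, Category.assoc, ShortComplex.liftCycles_i]
           exact ((hex X).lift_f _ _).trans (Category.id_comp _).symm⟩
    infer_instance
  refine preservesColimitsOfShape_of_natIso
    (NatIso.ofComponents (fun X => (@asIso _ _ _ _ (θ X) (hθ X)).symm) ?_ :
      Φ ⋙ ShortComplex.homologyFunctor C ≅ G)
  intro X Y a
  have hnat : G.map a ≫ θ Y = θ X ≫ ShortComplex.homologyMap (Φ.map a) := by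
    simp only [θ, Category.assoc, ShortComplex.homologyπ_naturality]
    rw [← Category.assoc, ← Category.assoc]
    congr 1
    rw [← cancel_mono (Φ.obj Y).iCycles]
    simp only [Category.assoc, ShortComplex.liftCycles_i, ShortComplex.cyclesMap_i,
      ShortComplex.liftCycles_i_assoc]
    exact ι.naturality a
  haveI := hθ X
  haveI := hθ Y
  change ShortComplex.homologyMap (Φ.map a) ≫ inv (θ Y) = inv (θ X) ≫ G.map a
  exact (IsIso.comp_inv_eq _).2 (((Category.assoc _ _ _).trans ((congrArg (inv (θ X) ≫ ·) hnat).trans
    (IsIso.inv_hom_id_assoc _ _))).symm)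

end Generic

section Tor

variable {A : Type u} [CommRing A]

open MonoidalCategory

/-- `M ↦ M ⊗ P`. -/
noncomputable def tensorCx (P : ChainComplex (ModuleCat.{u} A) ℕ) :
    ModuleCat.{u} A ⥤ ChainComplex (ModuleCat.{u} A) ℕ where
  obj M := (((tensoringLeft (ModuleCat.{u} A)).obj M).mapHomologicalComplex _).obj P
  map f := (NatTrans.mapHomologicalComplex ((tensoringLeft (ModuleCat.{u} A)).map f) _).app P
  map_id M := by ext : 1; simp
  map_comp f g := by ext : 1; simp

theorem preservesColimitsOfShape_tor_flip (p : ℕ) (N : ModuleCat.{u} A) (J : Type u)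
    [SmallCategory J] [IsFiltered J] :
    PreservesColimitsOfShape J ((CategoryTheory.Tor (ModuleCat.{u} A) p).flip.obj N) := by
  let P := projectiveResolution N
  let Φ := tensorCx P.complex ⋙ HomologicalComplex.shortComplexFunctor _ _ p
  have h : ∀ X : ModuleCat.{u} A, PreservesColimitsOfShape J (tensorRight X) := fun X =>
    preservesColimitsOfShape_of_natIso (BraidedCategory.tensorLeftIsoTensorRight X)
  haveI : PreservesColimitsOfShape J (Φ ⋙ ShortComplex.π₁) :=
    haveI := h (P.complex.X ((ComplexShape.down ℕ).prev p))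
    preservesColimitsOfShape_of_natIso (NatIso.ofComponents (fun _ => Iso.refl _)
      (fun f => (Category.comp_id _).trans (Category.id_comp _).symm) :
        tensorRight (P.complex.X ((ComplexShape.down ℕ).prev p)) ≅ Φ ⋙ ShortComplex.π₁)
  haveI : PreservesColimitsOfShape J (Φ ⋙ ShortComplex.π₂) :=
    haveI := h (P.complex.X p)
    preservesColimitsOfShape_of_natIso (NatIso.ofComponents (fun _ => Iso.refl _)
      (fun f => (Category.comp_id _).trans (Category.id_comp _).symm) : tensorRight (P.complex.X p) ≅ Φ ⋙ ShortComplex.π₂)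
  haveI : PreservesColimitsOfShape J (Φ ⋙ ShortComplex.π₃) :=
    haveI := h (P.complex.X ((ComplexShape.down ℕ).next p))
    preservesColimitsOfShape_of_natIso (NatIso.ofComponents (fun _ => Iso.refl _)
      (fun f => (Category.comp_id _).trans (Category.id_comp _).symm) :
        tensorRight (P.complex.X ((ComplexShape.down ℕ).next p)) ≅ Φ ⋙ ShortComplex.π₃)
  haveI := preservesColimitsOfShape_homology (J := J) Φ
  refine preservesColimitsOfShape_of_natIso (NatIso.ofComponents
    (fun M => (TorSESLib.torIso N M p).symm) ?_ :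
      Φ ⋙ ShortComplex.homologyFunctor _ ≅ (CategoryTheory.Tor (ModuleCat.{u} A) p).flip.obj N)
  intro M M' f
  change _ = _ ≫ (NatTrans.leftDerived ((tensoringLeft _).map f) p).app N
  rw [ProjectiveResolution.leftDerived_app_eq _ P]
  exact (Iso.inv_hom_id_assoc _ _).symm

theorem preservesColimitsOfShape_tor (J : Type u) [SmallCategory J] [IsFiltered J] :
    ∀ (p : ℕ) (M : ModuleCat.{u} A),
      PreservesColimitsOfShape J ((CategoryTheory.Tor (ModuleCat.{u} A) p).obj M) := by
  intro p
  induction p with
  | zero =>
    intro M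
    exact preservesColimitsOfShape_of_natIso
      ((tensoringLeft (ModuleCat.{u} A)).obj M).leftDerivedZeroIsoSelf.symm
  | succ p ih =>
    intro M
    let S : ShortComplex (ModuleCat.{u} A) :=
      ShortComplex.mk (kernel.ι (Projective.π M)) (Projective.π M) (kernel.condition _)
    have hS : S.ShortExact :=
      { exact := ShortComplex.exact_of_f_is_kernel _ (kernelIsKernel _)
        mono_f := inferInstanceAs (Mono (kernel.ι (Projective.π M)))
        epi_g := inferInstanceAs (Epi (Projective.π M)) }
    let dd : ∀ N, ((CategoryTheory.Tor (ModuleCat.{u} A) (p + 1)).obj S.X₃).obj N ⟶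
        ((CategoryTheory.Tor (ModuleCat.{u} A) p).obj S.X₁).obj N := fun N =>
      (TorSESLib.torIso N S.X₃ (p + 1)).hom ≫
        (TorSESLib.cx_shortExact S N hS).δ (p + 1) p (by simp) ≫
          (TorSESLib.torIso N S.X₁ p).inv
    let δ : (CategoryTheory.Tor (ModuleCat.{u} A) (p + 1)).obj S.X₃ ⟶
        (CategoryTheory.Tor (ModuleCat.{u} A) p).obj S.X₁ :=
      { app := dd
        naturality := fun N N' f => by
          let φ := ProjectiveResolution.lift f (projectiveResolution N) (projectiveResolution N')
          have hφ := ProjectiveResolution.lift_commutes_zero f (projectiveResolution N)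
            (projectiveResolution N')
          let Ψ : TorSESLib.cx S N ⟶ TorSESLib.cx S N' :=
            { τ₁ := (((tensoringLeft _).obj S.X₁).mapHomologicalComplex _).map φ
              τ₂ := (((tensoringLeft _).obj S.X₂).mapHomologicalComplex _).map φ
              τ₃ := (((tensoringLeft _).obj S.X₃).mapHomologicalComplex _).map φ
              comm₁₂ := (NatTrans.mapHomologicalComplex
                ((tensoringLeft _).map S.f) (ComplexShape.down ℕ)).naturality φ
              comm₂₃ := (NatTrans.mapHomologicalComplex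
                ((tensoringLeft _).map S.g) (ComplexShape.down ℕ)).naturality φ }
          have hn := HomologicalComplex.HomologySequence.δ_naturality Ψ
            (TorSESLib.cx_shortExact S N hS) (TorSESLib.cx_shortExact S N' hS) (p + 1) p (by simp)
          have h3 := ProjectiveResolution.isoLeftDerivedObj_hom_naturality f
            (projectiveResolution N) (projectiveResolution N') φ hφ
            ((tensoringLeft _).obj S.X₃) (p + 1)
          have h1 := ProjectiveResolution.isoLeftDerivedObj_inv_naturality f
            (projectiveResolution N) (projectiveResolution N') φ hφ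
            ((tensoringLeft _).obj S.X₁) p
          calc _ = ((TorSESLib.torIso N S.X₃ (p + 1)).hom ≫
                  HomologicalComplex.homologyMap Ψ.τ₃ (p + 1)) ≫
                (TorSESLib.cx_shortExact S N' hS).δ (p + 1) p (by simp) ≫
                  (TorSESLib.torIso N' S.X₁ p).inv :=
                (Category.assoc _ _ _).symm.trans (congrArg (· ≫ _) h3)
            _ = (TorSESLib.torIso N S.X₃ (p + 1)).hom ≫
                (TorSESLib.cx_shortExact S N hS).δ (p + 1) p (by simp) ≫
                  HomologicalComplex.homologyMap Ψ.τ₁ p ≫ (TorSESLib.torIso N' S.X₁ p).inv := by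
                rw [Category.assoc]
                exact congrArg (_ ≫ ·) ((Category.assoc _ _ _).symm.trans
                  ((congrArg (· ≫ _) hn.symm).trans (Category.assoc _ _ _)))
            _ = _ := by
                simp only [dd, Category.assoc]
                exact congrArg (_ ≫ ·) (congrArg (_ ≫ ·) h1.symm) }
    let g := (CategoryTheory.Tor (ModuleCat.{u} A) p).map S.f
    have hg : ∀ N, g.app N = (TorSESLib.torIso N S.X₁ p).hom ≫
        HomologicalComplex.homologyMap (TorSESLib.cx S N).f p ≫
          (TorSESLib.torIso N S.X₂ p).inv := fun N =>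
      ProjectiveResolution.leftDerived_app_eq _ (projectiveResolution N) p
    have hw : ∀ N, δ.app N ≫ g.app N = 0 := fun N => by
      rw [hg]
      change dd N ≫ _ = 0
      have h0 := (TorSESLib.cx_shortExact S N hS).δ_comp (p + 1) p (by simp)
      simp only [dd, Category.assoc]
      erw [Iso.inv_hom_id_assoc, reassoc_of% h0]
      rw [zero_comp]
      exact comp_zero
    have hflat : Module.Flat A (S.X₂ : Type u) :=
      haveI : Module.Projective A (S.X₂ : Type u) :=
        (IsProjective.iff_projective _).2 (Projective.projective_over M)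
      inferInstance
    haveI : ∀ N, Mono (δ.app N) := fun N => by
      haveI : Mono ((TorSESLib.cx_shortExact S N hS).δ (p + 1) p (by simp)) :=
        ((TorSESLib.cx_shortExact S N hS).homology_exact₃ (p + 1) p (by simp)).mono_g
          (((TorSESLib.isZero_tor_of_flat N S.X₂ (Nat.succ_pos p)).of_iso
            (TorSESLib.torIso N S.X₂ (p + 1)).symm).eq_of_src _ _)
      exact mono_comp' inferInstance (mono_comp' this inferInstance)
    have hex : ∀ N, (ShortComplex.mk _ _ (hw N)).Exact := fun N => by
      refine ShortComplex.exact_of_iso ?_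
        ((TorSESLib.cx_shortExact S N hS).homology_exact₁ (p + 1) p (by simp))
      refine ShortComplex.isoMk (TorSESLib.torIso N S.X₃ (p + 1)).symm
        (TorSESLib.torIso N S.X₁ p).symm (TorSESLib.torIso N S.X₂ p).symm ?_ ?_
      · change (TorSESLib.torIso N S.X₃ (p + 1)).inv ≫ dd N = _ ≫ _
        simp [dd]
      · change (TorSESLib.torIso N S.X₁ p).inv ≫ g.app N = _ ≫ _
        simp [hg]
    haveI := ih S.X₁
    haveI := ih S.X₂
    exact preservesColimitsOfShape_of_exact δ g hw hex

end Tor

end TorColimLib
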